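import Groth.Agent.ResProp.EF.K416.Cobar
import Groth.Agent.ResProp.EF.K601.PD

/-!
# Dimension shifting along an acyclic resolution (`S16912`, group G6b, step (c) of `K350/FinStep`, helper850)

A complex `K` of comodules with acyclic terms, its cocycles `Z n`, coboundaries `C n` (`C 0 = 0`) and cohomology
`H n`, given by the short exact sequences `0 → Z n → K n → C (n+1) → 0` and `0 → C n → Z n → H n → 0`.

* `finite_Z`, `zero_Z` : `H^{m+1}(Z n)` is finite, and is zero for `r0 + r < n + m + 1`.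
* `ker_fg`, `ker_le` : the complex `P` of invariants of `K` has finite cohomology, which is zero above `r0 + r`.
-/

set_option autoImplicit false
universe u

open TensorProduct

noncomputable section

namespace Groth.Agent.ResProp.EF.K850

open K416

section mods

variable {R : Type u} [CommRing R]

/-- the lift of `v` along the injective `e` -/
def lft {W X Y : Type u} [AddCommGroup W] [Module R W] [AddCommGroup X] [Module R X] [AddCommGroup Y] [Module R Y]
    (e : X →ₗ[R] Y) (he : Function.Injective e) (v : W →ₗ[R] Y) (h : ∀ x, v x ∈ LinearMap.range e) :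
    W →ₗ[R] X :=
  (LinearEquiv.ofInjective e he).symm.toLinearMap ∘ₗ v.codRestrict (LinearMap.range e) h

theorem lft_spec {W X Y : Type u} [AddCommGroup W] [Module R W] [AddCommGroup X] [Module R X] [AddCommGroup Y]
    [Module R Y] (e : X →ₗ[R] Y) (he : Function.Injective e) (v : W →ₗ[R] Y) (h : ∀ x, v x ∈ LinearMap.range e)
    (x : W) : e (lft e he v h x) = v x := by
  have h1 : (LinearEquiv.ofInjective e he) (lft e he v h x) = v.codRestrict (LinearMap.range e) h x := by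
    rw [lft, LinearMap.comp_apply, LinearEquiv.coe_coe, LinearEquiv.apply_symm_apply]
  exact congrArg Subtype.val h1

theorem finite_of_exact [IsNoetherianRing R] {A M N : Type u} [AddCommGroup A] [Module R A] [AddCommGroup M]
    [Module R M] [AddCommGroup N] [Module R N] {f : A →ₗ[R] M} {g : M →ₗ[R] N} (h : Function.Exact f g)
    [Module.Finite R A] [Module.Finite R N] : Module.Finite R M := by
  have := isNoetherian_of_range_eq_ker f g (LinearMap.exact_iff.mp h).symm
  infer_instance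

theorem subsingleton_of_exact {A M N : Type u} [AddCommGroup A] [Module R A] [AddCommGroup M]
    [Module R M] [AddCommGroup N] [Module R N] {f : A →ₗ[R] M} {g : M →ₗ[R] N} (h : Function.Exact f g)
    [Subsingleton A] [Subsingleton N] : Subsingleton M := by
  refine ⟨fun a b => ?_⟩
  have h1 : ∀ a : M, a = 0 := by
    intro a
    obtain ⟨x, rfl⟩ := (h a).mp (Subsingleton.elim _ _)
    rw [Subsingleton.elim x 0, map_zero]
  rw [h1 a, h1 b]

/-- one lifting step -/
theorem fg_step [IsNoetherianRing R] {P N : Type u} [AddCommGroup P] [Module R P] [AddCommGroup N] [Module R N]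
    [Module.Finite R N] (W W' : Submodule R P) (f : W →ₗ[R] N) (h : ∀ x : W, f x = 0 → (x : P) ∈ W') :
    ∃ S : Submodule R P, S.FG ∧ W ≤ S ⊔ W' := by
  obtain ⟨T, hT, -, hT2⟩ := K601.PD.exists_fg_lift f ⊥ ⊤ Module.Finite.fg_top ⊤ (by rw [top_sup_eq]; exact le_top)
  refine ⟨T.map W.subtype, hT.map _, fun x hx => ?_⟩
  obtain ⟨t, ht, s, hs, hts⟩ := Submodule.mem_sup.mp (hT2 (Submodule.mem_top : (⟨x, hx⟩ : W) ∈ ⊤))
  have h1 : x = (t : P) + s := (congrArg Subtype.val hts).symm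
  rw [h1]
  refine Submodule.add_mem_sup (Submodule.mem_map_of_mem (f := W.subtype) ht) (h s ?_)
  exact (Submodule.mem_bot R).mp hs.2

end mods

section cohomology

variable (R B : Type u) [CommRing R] [Ring B] [Bialgebra R B]
variable {V : Type u} [AddCommGroup V] [Module R V] [HopfRep.Comod R B V]

omit [HopfRep.Comod R B V] in
theorem subsingleton_cochain [Subsingleton V] (m : ℕ) : Subsingleton (Hoch.cochain R B V m : Type u) := by
  induction m with
  | zero => assumption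
  | succ m ih =>
    change Subsingleton ((Hoch.cochain R B V m : Type u) ⊗[R] B)
    refine ⟨fun a b => ?_⟩
    have h1 : ∀ a : (Hoch.cochain R B V m : Type u) ⊗[R] B, a = 0 := by
      intro a
      induction a using TensorProduct.induction_on with
      | zero => rfl
      | tmul x y => rw [Subsingleton.elim x 0, TensorProduct.zero_tmul]
      | add x y hx hy => rw [hx, hy, add_zero]
    rw [h1 a, h1 b]

theorem subsingleton_H [Subsingleton V] (m : ℕ) : Subsingleton (Hoch.H R B V m) := by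
  have := subsingleton_cochain R B (V := V) m
  exact (mk_surj R B m).subsingleton

/-- an invariant vector as a cocycle -/
def inv0 (W : Type u) [AddCommGroup W] [Module R W] (f : W →ₗ[R] V)
    (h : ∀ w, HopfRep.Comod.coact (k := R) (A := B) (f w) = f w ⊗ₜ[R] (1 : B)) : W →ₗ[R] Hoch.cocycles R B V 0 where
  toFun w := ⟨f w, by
    change Hoch.d R B V 0 (f w) = 0
    rw [Hoch.d_zero_apply, h w, sub_self]⟩
  map_add' _ _ := Subtype.ext (map_add f _ _)
  map_smul' _ _ := Subtype.ext (map_smul f _ _)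

theorem mk_inv0_eq_zero_iff (W : Type u) [AddCommGroup W] [Module R W] (f : W →ₗ[R] V)
    (h : ∀ w, HopfRep.Comod.coact (k := R) (A := B) (f w) = f w ⊗ₜ[R] (1 : B)) (w : W) :
    Hoch.H.mk R B V 0 (inv0 R B W f h w) = 0 ↔ f w = 0 := by
  rw [mk_eq_zero_iff]
  exact Iff.rfl

end cohomology

section shift

variable {R B : Type u} [CommRing R] [IsNoetherianRing R] [Ring B] [Bialgebra R B] [Module.Flat R B]
variable {K Z C H : ℕ → Type u}
  [∀ n, AddCommGroup (K n)] [∀ n, Module R (K n)] [∀ n, HopfRep.Comod R B (K n)]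
  [∀ n, AddCommGroup (Z n)] [∀ n, Module R (Z n)] [∀ n, HopfRep.Comod R B (Z n)]
  [∀ n, AddCommGroup (C n)] [∀ n, Module R (C n)] [∀ n, HopfRep.Comod R B (C n)]
  [∀ n, AddCommGroup (H n)] [∀ n, Module R (H n)] [∀ n, HopfRep.Comod R B (H n)]
variable {i : ∀ n, Z n →ₗ[R] K n} {p : ∀ n, K n →ₗ[R] C (n + 1)} {j : ∀ n, C n →ₗ[R] Z n}
  {q : ∀ n, Z n →ₗ[R] H n}

include i p in
omit [IsNoetherianRing R] in
/-- `H^{m+1}(C (n+1)) → H^{m+2}(Z n)` is injective -/
theorem del_injective (S1 : ∀ n, SES R B (i n) (p n)) (hK : ∀ n m, 0 < m → Subsingleton (Hoch.H R B (K n) m))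
    (n m : ℕ) : Function.Injective ((S1 n).del (m + 1)) := by
  rw [injective_iff_map_eq_zero]
  intro x hx
  obtain ⟨y, rfl⟩ := ((S1 n).exact_mid (m + 1) x).mp hx
  have := hK n (m + 1) (Nat.succ_pos m)
  rw [Subsingleton.elim y 0, map_zero]

/-- **(c1), finiteness** -/
theorem finite_Z (S1 : ∀ n, SES R B (i n) (p n)) (S2 : ∀ n, SES R B (j n) (q n)) (hC : Subsingleton (C 0))
    (hK : ∀ n m, 0 < m → Subsingleton (Hoch.H R B (K n) m)) (hH : ∀ n m, Module.Finite R (Hoch.H R B (H n) m))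
    (n m : ℕ) : Module.Finite R (Hoch.H R B (Z n) (m + 1)) := by
  induction n generalizing m with
  | zero =>
    have := subsingleton_H R B (V := C 0) (m + 1)
    have := hH 0 (m + 1)
    exact finite_of_exact ((S2 0).exact_left (m + 1))
  | succ n ih =>
    have h1 := ih (m + 1)
    have := Module.Finite.of_injective _ (del_injective S1 hK n m)
    have := hH (n + 1) (m + 1)
    exact finite_of_exact ((S2 (n + 1)).exact_left (m + 1))

omit [IsNoetherianRing R] in
/-- **(c1), vanishing** -/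
theorem zero_Z (S1 : ∀ n, SES R B (i n) (p n)) (S2 : ∀ n, SES R B (j n) (q n)) (hC : Subsingleton (C 0))
    (hK : ∀ n m, 0 < m → Subsingleton (Hoch.H R B (K n) m)) (r0 r : ℕ)
    (hH0 : ∀ n m, r0 < m → Subsingleton (Hoch.H R B (H n) m)) (hHr : ∀ n, r < n → Subsingleton (H n))
    (n m : ℕ) (hnm : r0 + r < n + m + 1) : Subsingleton (Hoch.H R B (Z n) (m + 1)) := by
  induction n generalizing m with
  | zero =>
    have := subsingleton_H R B (V := C 0) (m + 1)
    have := hH0 0 (m + 1) (by omega)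
    exact subsingleton_of_exact ((S2 0).exact_left (m + 1))
  | succ n ih =>
    have h1 := ih (m + 1) (by omega)
    have := (del_injective S1 hK n m).subsingleton
    have : Subsingleton (Hoch.H R B (H (n + 1)) (m + 1)) := by
      by_cases h : r0 < m + 1
      · exact hH0 _ _ h
      · have := hHr (n + 1) (by omega)
        exact subsingleton_H R B (m + 1)
    exact subsingleton_of_exact ((S2 (n + 1)).exact_left (m + 1))

variable {P : ℕ → Type u} [∀ n, AddCommGroup (P n)] [∀ n, Module R (P n)] {d : ∀ n, P n →ₗ[R] P (n + 1)}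
  {v : ∀ n, P n →ₗ[R] K n}

omit [IsNoetherianRing R] [Module.Flat R B] in
/-- a cocycle of `P` comes from `Z` -/
theorem mem_range_i (S1 : ∀ n, SES R B (i n) (p n)) (S2 : ∀ n, SES R B (j n) (q n))
    (hd : ∀ n x, i (n + 1) (j (n + 1) (p n (v n x))) = v (n + 1) (d n x)) (n : ℕ) (x : LinearMap.ker (d n)) :
    (v n ∘ₗ (LinearMap.ker (d n)).subtype) x ∈ LinearMap.range (i n) := by
  refine ((S1 n).exact _).mp ((S2 (n + 1)).inj ((S1 (n + 1)).inj ?_))
  rw [map_zero, map_zero, LinearMap.comp_apply, Submodule.subtype_apply, hd]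
  rw [show d n (x : P n) = 0 from x.2, map_zero]

omit [IsNoetherianRing R] in
/-- an injective comodule homomorphism reflects invariants -/
theorem reflect {X Y : Type u} [AddCommGroup X] [Module R X] [AddCommGroup Y] [Module R Y] [HopfRep.Comod R B X]
    [HopfRep.Comod R B Y] {f : X →ₗ[R] Y} (hf : Hoch.IsComodHom B f) (hfi : Function.Injective f) (x : X)
    (h : HopfRep.Comod.coact (k := R) (A := B) (f x) = f x ⊗ₜ[R] (1 : B)) :
    HopfRep.Comod.coact (k := R) (A := B) x = x ⊗ₜ[R] (1 : B) := by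
  apply Module.Flat.rTensor_preserves_injective_linearMap (M := B) f hfi
  rw [LinearMap.rTensor_tmul, ← h]
  exact (LinearMap.congr_fun hf x).symm

omit [IsNoetherianRing R] [Module.Flat R B] in
/-- a comodule homomorphism preserves invariants -/
theorem preserve {X Y : Type u} [AddCommGroup X] [Module R X] [AddCommGroup Y] [Module R Y] [HopfRep.Comod R B X]
    [HopfRep.Comod R B Y] {f : X →ₗ[R] Y} (hf : Hoch.IsComodHom B f) (x : X)
    (h : HopfRep.Comod.coact (k := R) (A := B) x = x ⊗ₜ[R] (1 : B)) :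
    HopfRep.Comod.coact (k := R) (A := B) (f x) = f x ⊗ₜ[R] (1 : B) := by
  have h1 := LinearMap.congr_fun hf x
  refine h1.trans ?_
  rw [LinearMap.comp_apply, h, LinearMap.rTensor_tmul]

/-- the class in `H^0(H n)` of a cocycle of `P` -/
def cls (S1 : ∀ n, SES R B (i n) (p n)) (S2 : ∀ n, SES R B (j n) (q n))
    (hd : ∀ n x, i (n + 1) (j (n + 1) (p n (v n x))) = v (n + 1) (d n x))
    (hv : ∀ n x, HopfRep.Comod.coact (k := R) (A := B) (v n x) = v n x ⊗ₜ[R] (1 : B)) (n : ℕ) :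
    LinearMap.ker (d n) →ₗ[R] Hoch.H R B (H n) 0 :=
  Hoch.H.mk R B (H n) 0 ∘ₗ inv0 R B _
    (q n ∘ₗ lft (i n) (S1 n).inj (v n ∘ₗ (LinearMap.ker (d n)).subtype) (mem_range_i S1 S2 hd n)) (fun w => by
      refine preserve (S2 n).hg _ (reflect (S1 n).hf (S1 n).inj _ ?_)
      rw [lft_spec]
      exact hv n w)

omit [IsNoetherianRing R] in
theorem cls_eq_zero (S1 : ∀ n, SES R B (i n) (p n)) (S2 : ∀ n, SES R B (j n) (q n))
    (hd : ∀ n x, i (n + 1) (j (n + 1) (p n (v n x))) = v (n + 1) (d n x))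
    (hv : ∀ n x, HopfRep.Comod.coact (k := R) (A := B) (v n x) = v n x ⊗ₜ[R] (1 : B)) (n : ℕ)
    (x : LinearMap.ker (d n)) (hx : cls S1 S2 hd hv n x = 0) : ∃ c : C n, i n (j n c) = v n x := by
  have h1 := (mk_inv0_eq_zero_iff R B _ _ _ x).mp hx
  obtain ⟨c, hc⟩ := ((S2 n).exact _).mp h1
  exact ⟨c, by rw [hc, lft_spec]; rfl⟩

/-- the cocycles of `P` coming from `C` -/
def WC (i : ∀ n, Z n →ₗ[R] K n) (j : ∀ n, C n →ₗ[R] Z n) (v : ∀ n, P n →ₗ[R] K n) (n : ℕ) : Submodule R (P n) :=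
  (LinearMap.range (i n ∘ₗ j n)).comap (v n)

omit [IsNoetherianRing R] [Module.Flat R B] in
theorem mem_range_WC (n : ℕ) (x : WC i j v n) :
    (v n ∘ₗ (WC i j v n).subtype) x ∈ LinearMap.range (i n ∘ₗ j n) := x.2

/-- the class in `H^1(Z n)` -/
def cls1 (S1 : ∀ n, SES R B (i n) (p n)) (S2 : ∀ n, SES R B (j n) (q n))
    (hv : ∀ n x, HopfRep.Comod.coact (k := R) (A := B) (v n x) = v n x ⊗ₜ[R] (1 : B)) (n : ℕ) :
    WC i j v (n + 1) →ₗ[R] Hoch.H R B (Z n) 1 :=
  (S1 n).del 0 ∘ₗ Hoch.H.mk R B (C (n + 1)) 0 ∘ₗ inv0 R B _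
    (lft (i (n + 1) ∘ₗ j (n + 1)) ((S1 (n + 1)).inj.comp (S2 (n + 1)).inj)
      (v (n + 1) ∘ₗ (WC i j v (n + 1)).subtype) (mem_range_WC (n + 1))) (fun w => by
      refine reflect (isComodHom_comp R B (S2 (n + 1)).hf (S1 (n + 1)).hf)
        ((S1 (n + 1)).inj.comp (S2 (n + 1)).inj) _ ?_
      rw [lft_spec]
      exact hv (n + 1) w)

omit [IsNoetherianRing R] in
theorem cls1_eq_zero (S1 : ∀ n, SES R B (i n) (p n)) (S2 : ∀ n, SES R B (j n) (q n))
    (hd : ∀ n x, i (n + 1) (j (n + 1) (p n (v n x))) = v (n + 1) (d n x)) (hvi : ∀ n, Function.Injective (v n))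
    (hv : ∀ n (x : K n), HopfRep.Comod.coact (k := R) (A := B) x = x ⊗ₜ[R] (1 : B) ↔ ∃ m, v n m = x) (n : ℕ)
    (x : WC i j v (n + 1)) (hx : cls1 S1 S2 (fun n x => (hv n _).mpr ⟨x, rfl⟩) n x = 0) :
    (x : P (n + 1)) ∈ LinearMap.range (d n) := by
  obtain ⟨y, hy⟩ := ((S1 n).exact_mid 0 _).mp hx
  obtain ⟨y, rfl⟩ := mk_surj R B 0 y
  rw [Hmap_mk, LinearMap.comp_apply, mk_eq_iff] at hy
  have h1 : p n (y : (Hoch.cochain R B (K n) 0 : Type u)) =
      lft (i (n + 1) ∘ₗ j (n + 1)) ((S1 (n + 1)).inj.comp (S2 (n + 1)).inj)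
      (v (n + 1) ∘ₗ (WC i j v (n + 1)).subtype) (mem_range_WC (n + 1)) x := sub_eq_zero.mp hy
  have h2 : Hoch.d R B (K n) 0 (y : (Hoch.cochain R B (K n) 0 : Type u)) = 0 := y.2
  rw [Hoch.d_zero_apply, sub_eq_zero] at h2
  obtain ⟨m, hm⟩ := (hv n _).mp h2
  refine ⟨m, hvi (n + 1) ?_⟩
  rw [← hd, hm]
  have h3 := congrArg (i (n + 1) ∘ₗ j (n + 1)) h1
  rw [lft_spec] at h3
  exact h3

/-- **(c2), finiteness** -/
theorem ker_fg (S1 : ∀ n, SES R B (i n) (p n)) (S2 : ∀ n, SES R B (j n) (q n)) (hC : Subsingleton (C 0))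
    (hK : ∀ n m, 0 < m → Subsingleton (Hoch.H R B (K n) m)) (hH : ∀ n m, Module.Finite R (Hoch.H R B (H n) m))
    (hvi : ∀ n, Function.Injective (v n))
    (hv : ∀ n (x : K n), HopfRep.Comod.coact (k := R) (A := B) x = x ⊗ₜ[R] (1 : B) ↔ ∃ m, v n m = x)
    (hd : ∀ n x, i (n + 1) (j (n + 1) (p n (v n x))) = v (n + 1) (d n x)) (n : ℕ) :
    ∃ S : Submodule R (P n), S.FG ∧ LinearMap.ker (d n) ≤ S ⊔ K601.PD.Bd d (fun _ => ⊤) n := by
  have := hH n 0
  obtain ⟨S, hS, h1⟩ := fg_step (LinearMap.ker (d n)) (WC i j v n) (cls S1 S2 hd (fun n x => (hv n _).mpr ⟨x, rfl⟩) n)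
    (fun x hx => by
      obtain ⟨c, hc⟩ := cls_eq_zero S1 S2 hd _ n x hx
      exact ⟨c, hc⟩)
  cases n with
  | zero =>
    refine ⟨S, hS, h1.trans (sup_le_sup_left ?_ S)⟩
    rintro x ⟨c, hc⟩
    rw [Subsingleton.elim c 0, map_zero] at hc
    have h2 : x = 0 := hvi 0 (hc.symm.trans (map_zero _).symm)
    rw [h2]
    exact Submodule.zero_mem _
  | succ n =>
    have := finite_Z S1 S2 hC hK hH n 0
    obtain ⟨T, hT, h2⟩ := fg_step (WC i j v (n + 1)) (LinearMap.range (d n))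
      (cls1 S1 S2 (fun n x => (hv n _).mpr ⟨x, rfl⟩) n) (fun x hx => cls1_eq_zero S1 S2 hd hvi hv n x hx)
    refine ⟨S ⊔ T, hS.sup hT, h1.trans ?_⟩
    have h3 : K601.PD.Bd d (fun _ => ⊤) (n + 1) = LinearMap.range (d n) := by
      change Submodule.map (d n) ⊤ = _
      exact Submodule.map_top _
    rw [h3, sup_assoc]
    exact sup_le_sup_left h2 S

omit [IsNoetherianRing R] in
/-- **(c2), vanishing** -/
theorem ker_le (S1 : ∀ n, SES R B (i n) (p n)) (S2 : ∀ n, SES R B (j n) (q n)) (hC : Subsingleton (C 0))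
    (hK : ∀ n m, 0 < m → Subsingleton (Hoch.H R B (K n) m)) (r0 r : ℕ)
    (hH0 : ∀ n m, r0 < m → Subsingleton (Hoch.H R B (H n) m)) (hHr : ∀ n, r < n → Subsingleton (H n))
    (hvi : ∀ n, Function.Injective (v n))
    (hv : ∀ n (x : K n), HopfRep.Comod.coact (k := R) (A := B) x = x ⊗ₜ[R] (1 : B) ↔ ∃ m, v n m = x)
    (hd : ∀ n x, i (n + 1) (j (n + 1) (p n (v n x))) = v (n + 1) (d n x)) (n : ℕ) (hn : r0 + r < n) :
    LinearMap.ker (d n) ≤ K601.PD.Bd d (fun _ => ⊤) n := by
  cases n with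
  | zero => omega
  | succ n =>
    have h3 : K601.PD.Bd d (fun _ => ⊤) (n + 1) = LinearMap.range (d n) := by
      change Submodule.map (d n) ⊤ = _
      exact Submodule.map_top _
    rw [h3]
    intro x hx
    have := hHr (n + 1) (by omega)
    have := subsingleton_H R B (V := H (n + 1)) 0
    obtain ⟨c, hc⟩ := cls_eq_zero S1 S2 hd (fun n x => (hv n _).mpr ⟨x, rfl⟩) (n + 1) ⟨x, hx⟩ (Subsingleton.elim _ _)
    have := zero_Z S1 S2 hC hK r0 r hH0 hHr n 0 (by omega)
    exact cls1_eq_zero S1 S2 hd hvi hv n ⟨x, ⟨c, hc⟩⟩ (Subsingleton.elim _ _)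

end shift

end Groth.Agent.ResProp.EF.K850
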