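import Groth.Agent.ResProp.EF.K350.ShiftData
import Mathlib.LinearAlgebra.DirectSum.Finsupp
import Mathlib.RingTheory.HopfAlgebra.TensorProduct

/-!
# Base change of shift data (`K350.StmtShiftBase`)
-/

set_option autoImplicit false

universe u

open TensorProduct

noncomputable section

namespace Groth.Agent.ResProp.EF.K850

open Groth.Agent.ResProp.EF.K350

section

variable {k R B B' : Type u} [CommRing k] [CommRing R] [Algebra k R]
    [CommRing B] [HopfAlgebra k B] [CommRing B'] [HopfAlgebra k B']

/-- base change of a functional -/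
def lamR (R : Type u) [CommRing R] [Algebra k R] (l : B' →ₗ[k] k) : (R ⊗[k] B') →ₗ[R] R :=
  (TensorProduct.AlgebraTensorModule.rid k R R).toLinearMap ∘ₗ l.baseChange R

@[simp] theorem lamR_tmul (l : B' →ₗ[k] k) (s : R) (f : B') : lamR R l (s ⊗ₜ[k] f) = l f • s := by
  simp [lamR]

theorem opR_aux (l : B' →ₗ[k] k) (s : R) (x : B' ⊗[k] B') :
    (TensorProduct.rid R (R ⊗[k] B')) ((lamR R l).lTensor (R ⊗[k] B')
      (TensorProduct.AlgebraTensorModule.tensorTensorTensorComm k R k R R R B' B' ((s ⊗ₜ[R] (1 : R)) ⊗ₜ[k] x))) =
    s ⊗ₜ[k] (TensorProduct.rid k B' (l.lTensor B' x)) := by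
  induction x with
  | zero => simp
  | add x y hx hy => simp only [tmul_add, map_add, hx, hy]
  | tmul a b =>
    simp [TensorProduct.smul_tmul', TensorProduct.tmul_smul]

theorem opR_base (l : B' →ₗ[k] k) (s : R) (f : B') :
    opR R (R ⊗[k] B') (lamR R l) (s ⊗ₜ[k] f) = s ⊗ₜ[k] opR k B' l f := by
  simp only [opR, LinearMap.comp_apply, LinearEquiv.coe_coe, TensorProduct.comul_tmul]
  have h : (CoalgebraStruct.comul (R := R) s : R ⊗[R] R) = s ⊗ₜ[R] (1 : R) := by
    rw [CommSemiring.comul_apply]
    have := TensorProduct.smul_tmul (R := R) s (1 : R) (1 : R)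
    simpa using this.symm
  rw [h]
  exact opR_aux l s _

/-- the base change of `e` -/
def eR (R : Type u) [CommRing R] [Algebra k R] {r : ℕ} (e : B' ≃ₗ[k] ((Fin r →₀ ℕ) →₀ B)) :
    (R ⊗[k] B') ≃ₗ[R] ((Fin r →₀ ℕ) →₀ (R ⊗[k] B)) :=
  (TensorProduct.AlgebraTensorModule.congr (LinearEquiv.refl R R) e) ≪≫ₗ
    TensorProduct.finsuppRight k R R B (Fin r →₀ ℕ)

@[simp] theorem eR_tmul {r : ℕ} (e : B' ≃ₗ[k] ((Fin r →₀ ℕ) →₀ B)) (s : R) (f : B') (a : Fin r →₀ ℕ) :
    eR R e (s ⊗ₜ[k] f) a = s ⊗ₜ[k] (e f a) := by
  simp [eR]

end

theorem stmtShiftBase : StmtShiftBase.{u} := by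
  intro k R _ _ _ B B' _ _ _ _ ι S
  refine ⟨Bialgebra.TensorProduct.map (BialgHom.id R R) ι, ?_, ⟨?_⟩⟩
  · intro b
    induction b with
    | zero => simp
    | add x y hx hy => simp only [map_add, hx, hy]
    | tmul s b => simp
  · refine
      { r := S.r
        lam := fun i => lamR R (S.lam i)
        lam_mul := ?_
        lam_ι := ?_
        e := eR R S.e
        e_mul := ?_
        e_one := ?_
        e_op := ?_ }
    · intro i a b
      induction a with
      | zero => simp
      | add x y hx hy => rw [add_mul, map_add, hx, hy, map_add, map_add]; ring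
      | tmul s a =>
        induction b with
        | zero => simp
        | add x y hx hy => rw [mul_add, map_add, hx, hy, map_add, map_add]; ring
        | tmul t b =>
          simp only [Algebra.TensorProduct.tmul_mul_tmul, lamR_tmul, S.lam_mul, TensorProduct.counit_tmul,
            CommSemiring.counit_apply, Algebra.smul_def, map_add, map_mul]
          ring
    · intro i b
      induction b with
      | zero => simp
      | add x y hx hy => simp only [map_add, hx, hy, add_zero]
      | tmul s b => simp [S.lam_ι]
    · intro b f a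
      induction b with
      | zero => simp
      | add x y hx hy => simp only [map_add, add_mul, Finsupp.add_apply, hx, hy]
      | tmul s b =>
        induction f with
        | zero => simp
        | add x y hx hy => simp only [map_add, mul_add, Finsupp.add_apply, hx, hy]
        | tmul t f =>
          simp only [Bialgebra.TensorProduct.map_tmul, BialgHom.coe_id, id_eq, Algebra.TensorProduct.tmul_mul_tmul,
            eR_tmul, S.e_mul]
    · ext a
      rw [Algebra.TensorProduct.one_def, eR_tmul, S.e_one, Finsupp.single_apply, Finsupp.single_apply]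
      split_ifs with h
      · rfl
      · simp
    · intro i f a
      induction f with
      | zero => simp
      | add x y hx hy => simp only [map_add, Finsupp.add_apply, hx, hy]
      | tmul s f => rw [opR_base, eR_tmul, eR_tmul, S.e_op]

end Groth.Agent.ResProp.EF.K850
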